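import Cfsg.Agent.Mrg.Omega.S5.Syl
import Cfsg.Agent.Mrg.Omega.VP
import Cfsg.Agent.Mrg.Omega.NO3b.EZeroBase

section


/-!
# LeafF4 (#15257): `V = C_V(O²(P)) × A`, `A` the even-subset module

`h : SymK T H V D 1 m` (one factor `S_{2^m+1}`, `V = zl T H`, `D = C_V(O²(H))`): the module splits.
Output: `EvenSet (2^m+1) A H ε`, `V = D ⊔ A`, `D ⊓ A = ⊥`, `H` centralises `D`.
-/

set_option autoImplicit false
set_option linter.unusedSectionVars false

namespace Cfsg.Agent.Omega.F4.Split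

open Subgroup Pointwise Cfsg Cfsg.Agent.ZN Cfsg.Agent.Omega.FFThm Cfsg.Agent.Omega.S5.Def Cfsg.Agent.Omega.S5.Of
open Cfsg.Agent.Omega.S5.Syl (Fix0 three_le)
open Cfsg.Agent.ZN.ChoiceSit (Syl syl_not_dvd)
open Cfsg.Agent.Omega.FrameFF (cv)
open Cfsg.Agent.MinSimple.VModule

universe u

/-- A Sylow 2-subgroup fixing the point 0 is transitive on the others. -/
theorem trans_of_surj {L : Type*} [Group L] [Finite L] {m : ℕ} (π : L →* Equiv.Perm (Fin (2 ^ m + 1)))
    (hπ : Function.Surjective π) {S' : Subgroup L} (hS2 : ¬ 2 ∣ S'.index) (h0 : ∀ s ∈ S', π s 0 = 0)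
    {i j : Fin (2 ^ m + 1)} (hi : i ≠ 0) (hj : j ≠ 0) : ∃ s ∈ S', π s i = j := by
  have h2 : Fact (Nat.Prime 2) := ⟨Nat.prime_two⟩
  let actL : MulAction L (Fin (2 ^ m + 1)) := MulAction.compHom _ π
  have hact : ∀ (g : L) (k : Fin (2 ^ m + 1)), g • k = π g k := fun g k => rfl
  let H : Subgroup L := MulAction.stabilizer L (0 : Fin (2 ^ m + 1))
  have hS'H : S' ≤ H := by
    intro s hs
    rw [MulAction.mem_stabilizer_iff, hact]
    exact h0 s hs
  let Hi : Subgroup L := H ⊓ MulAction.stabilizer L i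
  let Si : Subgroup L := S' ⊓ MulAction.stabilizer L i
  have e1 : Si.relIndex S' * S'.relIndex H = Si.relIndex H :=
    relIndex_mul_relIndex _ _ _ inf_le_left hS'H
  have e2 : Si.relIndex Hi * Hi.relIndex H = Si.relIndex H :=
    relIndex_mul_relIndex _ _ _ (inf_le_inf_right _ hS'H) inf_le_left
  have horb : ∀ (K : Subgroup L), (K ⊓ MulAction.stabilizer L i).relIndex K =
      (MulAction.orbit K i).ncard := by
    intro K
    rw [inf_relIndex_left, ← MulAction.index_stabilizer (G := K) (x := i), relIndex]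
    rfl
  have hH : Hi.relIndex H = 2 ^ m := by
    rw [horb H]
    have h1 : MulAction.orbit H i = {0}ᶜ := by
      ext k
      rw [Set.mem_compl_iff, Set.mem_singleton_iff]
      constructor
      · rintro ⟨⟨g, hg⟩, rfl⟩ hk
        have h3 : π g 0 = 0 := hg
        have h4 : π g i = 0 := hk
        exact hi ((π g).injective (h4.trans h3.symm))
      · intro hk
        obtain ⟨g, hg⟩ := hπ (Equiv.swap i k)
        refine ⟨⟨g, ?_⟩, ?_⟩
        · rw [MulAction.mem_stabilizer_iff, hact]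
          rw [hg, Equiv.swap_apply_of_ne_of_ne (Ne.symm hi) (Ne.symm hk)]
        · change π g i = k
          rw [hg, Equiv.swap_apply_left]
    rw [h1, Set.ncard_compl, Set.ncard_singleton, Nat.card_fin]
    simp
  have hodd : ¬ 2 ∣ S'.relIndex H := by
    intro h3
    apply hS2
    have h4 : S'.relIndex H * H.relIndex ⊤ = S'.relIndex ⊤ := relIndex_mul_relIndex _ _ _ hS'H le_top
    rw [relIndex_top_right (H := S')] at h4
    rw [← h4]
    exact dvd_mul_of_dvd_left h3 _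
  have hdvd : 2 ^ m ∣ Si.relIndex S' := by
    have h3 : 2 ^ m ∣ Si.relIndex S' * S'.relIndex H := by
      rw [e1, ← e2, hH]
      exact dvd_mul_left _ _
    have h4 : (2 ^ m).Coprime (S'.relIndex H) :=
      Nat.Coprime.pow_left m ((Nat.Prime.coprime_iff_not_dvd Nat.prime_two).mpr hodd)
    exact h4.dvd_of_dvd_mul_right h3
  have hle : 2 ^ m ≤ (MulAction.orbit S' i).ncard := by
    rw [← horb S']
    refine Nat.le_of_dvd (Nat.pos_of_ne_zero ?_) hdvd
    exact FiniteIndex.index_ne_zero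
  have hsub : MulAction.orbit S' i ⊆ {0}ᶜ := by
    rintro k ⟨⟨g, hg⟩, rfl⟩ hk
    have h3 : π g 0 = 0 := hS'H hg
    have h4 : π g i = 0 := hk
    exact hi ((π g).injective (h4.trans h3.symm))
  have heq : MulAction.orbit S' i = {0}ᶜ := by
    refine Set.eq_of_subset_of_ncard_le hsub ?_ (Set.toFinite _)
    rw [Set.ncard_compl, Set.ncard_singleton, Nat.card_fin]
    simpa using hle
  have hj' : j ∈ MulAction.orbit S' i := by
    rw [heq]
    exact hj
  obtain ⟨⟨g, hg⟩, hgj⟩ := hj'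
  exact ⟨g, hg, hgj⟩

variable {G : Type u} [Group G] {T H V D : Subgroup G} {m : ℕ}

/-- `g` acts on the coordinates as `τ` -/
def Ac (h : SymK T H V D 1 m) (g : G) (τ : Equiv.Perm (Fin (2 ^ m + 1))) : Prop :=
  ∀ v ∈ V, ∀ x, h.e (g * v * g⁻¹) 0 (τ x) = h.e v 0 x

section basic

variable (h : SymK T H V D 1 m)

theorem ac_iff {g : G} {σ : Equiv.Perm (Fin 1)} {τ : Fin 1 → Equiv.Perm (Fin (2 ^ m + 1))} :
    ActsSym h.e V g σ τ ↔ Ac h g (τ 0) := by
  constructor
  · intro h1 v hv x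
    have h2 := h1 v hv 0 x
    rwa [Subsingleton.elim (σ 0) 0] at h2
  · intro h1 v hv i x
    rw [Subsingleton.elim (σ i) 0, Subsingleton.elim i 0]
    exact h1 v hv x

theorem exists_ac {g : G} (hg : g ∈ H) : ∃ τ, Ac h g τ := by
  obtain ⟨σ, τ, h1⟩ := h.perm g hg
  exact ⟨_, (ac_iff h).1 h1⟩

theorem exists_of_perm (τ : Equiv.Perm (Fin (2 ^ m + 1))) : ∃ g ∈ H, Ac h g τ := by
  obtain ⟨g, hg, h1, -⟩ := h.lift fun _ => τ
  exact ⟨g, hg, (ac_iff h).1 h1⟩

/-- an element of `V` with a given even vector -/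
theorem exists_e {y : Fin (2 ^ m + 1) → ZMod 2} (hy : ∑ x, y x = 0) : ∃ v ∈ V, h.e v 0 = y := by
  obtain ⟨v, hv, e⟩ := h.surj (fun _ => y) fun _ => hy
  exact ⟨v, hv, by rw [e]⟩

theorem e_eq_zero {v : G} (hv : v ∈ V) : h.e v 0 = 0 ↔ v ∈ D := by
  rw [← h.ker v hv]
  constructor
  · intro h1
    funext i
    rw [Subsingleton.elim i 0, h1]
    rfl
  · intro h1
    rw [h1]
    rfl

theorem e_mul {v w : G} (hv : v ∈ V) (hw : w ∈ V) : h.e (v * w) 0 = h.e v 0 + h.e w 0 := by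
  rw [h.mul v hv w hw]
  rfl

/-- even vectors separate points -/
theorem exists_sep (hm : 1 ≤ m) {i j : Fin (2 ^ m + 1)} (hij : i ≠ j) :
    ∃ y : Fin (2 ^ m + 1) → ZMod 2, ∑ x, y x = 0 ∧ y i = 1 ∧ y j = 0 := by
  have hcard : ({i, j} : Finset (Fin (2 ^ m + 1))).card < (Finset.univ : Finset (Fin (2 ^ m + 1))).card := by
    rw [Finset.card_univ, Fintype.card_fin]
    have : 2 ^ 1 ≤ 2 ^ m := Nat.pow_le_pow_right (by norm_num) hm
    exact lt_of_le_of_lt Finset.card_le_two (by omega)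
  obtain ⟨l, -, hl⟩ := Finset.exists_mem_notMem_of_card_lt_card hcard
  simp only [Finset.mem_insert, Finset.mem_singleton, not_or] at hl
  refine ⟨Pi.single i 1 + Pi.single l 1, ?_, ?_, ?_⟩
  · simp only [Pi.add_apply, Finset.sum_add_distrib, Finset.sum_pi_single', Finset.mem_univ, if_true]
    exact CharTwo.add_self_eq_zero _
  · rw [Pi.add_apply, Pi.single_eq_same, Pi.single_eq_of_ne (Ne.symm hl.1), add_zero]
  · rw [Pi.add_apply, Pi.single_eq_of_ne (Ne.symm hij), Pi.single_eq_of_ne (Ne.symm hl.2), add_zero]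

theorem ac_unique (hm : 1 ≤ m) {g : G} {τ τ' : Equiv.Perm (Fin (2 ^ m + 1))} (h1 : Ac h g τ) (h2 : Ac h g τ') :
    τ = τ' := by
  ext1 x
  by_contra hne
  obtain ⟨y, hy, -, -⟩ := exists_sep hm hne
  -- compare the two descriptions on a vector which separates `x` and `τ⁻¹ τ' x`
  have hx : x ≠ τ.symm (τ' x) := fun h3 => hne (by nth_rewrite 1 [h3]; rw [Equiv.apply_symm_apply])
  obtain ⟨z, hz, hz1, hz0⟩ := exists_sep hm hx
  obtain ⟨v, hv, hev⟩ := exists_e h hz
  have h3 := h1 v hv (τ.symm (τ' x))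
  rw [Equiv.apply_symm_apply, h2 v hv x, hev, hz1, hz0] at h3
  exact one_ne_zero h3

variable (hH : H ≤ normalizer (V : Set G))
include hH

theorem ac_mul {g g' : G} (hg' : g' ∈ H) {τ τ' : Equiv.Perm (Fin (2 ^ m + 1))} (h1 : Ac h g τ)
    (h2 : Ac h g' τ') : Ac h (g * g') (τ * τ') := by
  intro v hv x
  have hv' : g' * v * g'⁻¹ ∈ V := (mem_normalizer_iff.1 (hH hg') _).1 hv
  have e : g * g' * v * (g * g')⁻¹ = g * (g' * v * g'⁻¹) * g⁻¹ := by group
  rw [e, Equiv.Perm.mul_apply, h1 _ hv', h2 v hv]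

theorem ac_one : Ac h 1 1 := by
  intro v hv x
  have _ := hH
  have e : (1 : G) * v * 1⁻¹ = v := by group
  rw [e]
  rfl

/-- the permutation representation -/
noncomputable def hom (hm : 1 ≤ m) : H →* Equiv.Perm (Fin (2 ^ m + 1)) where
  toFun g := (exists_ac h g.2).choose
  map_one' := ac_unique h hm (exists_ac h (1 : H).2).choose_spec (ac_one h hH)
  map_mul' g g' := ac_unique h hm (exists_ac h (g * g').2).choose_spec
    (ac_mul h hH g'.2 (exists_ac h g.2).choose_spec (exists_ac h g'.2).choose_spec)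

theorem ac_hom (hm : 1 ≤ m) (g : H) : Ac h (g : G) (hom h hH hm g) := (exists_ac h g.2).choose_spec

theorem hom_eq (hm : 1 ≤ m) (g : H) {τ : Equiv.Perm (Fin (2 ^ m + 1))} (h1 : Ac h (g : G) τ) :
    hom h hH hm g = τ := ac_unique h hm (ac_hom h hH hm g) h1

theorem hom_surjective (hm : 1 ≤ m) : Function.Surjective (hom h hH hm) := by
  intro τ
  obtain ⟨g, hg, h1⟩ := exists_of_perm h τ
  exact ⟨⟨g, hg⟩, hom_eq h hH hm ⟨g, hg⟩ h1⟩

theorem hom_T (hTH : T ≤ H) (hm : 1 ≤ m) {t : G} (ht : t ∈ T) : hom h hH hm ⟨t, hTH ht⟩ 0 = 0 :=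
  h.fix0 t ht 1 (fun _ => hom h hH hm ⟨t, hTH ht⟩) ((ac_iff h).2 (ac_hom h hH hm ⟨t, hTH ht⟩)) 0

end basic

/-! ### The abstract splitting -/

section abstract

variable {X : Type*} [AddCommGroup X] [Finite X] {K : Type*} [Group K] [Finite K] [DistribMulAction K X]

/-- odd averaging over an orbit -/
theorem exists_inv {M S : Subgroup K} (hodd : ¬ 2 ∣ S.relIndex M) (hSM : S ≤ M) {z : X}
    (hz : ∀ t ∈ S, t • z = z) {Y : Type*} [AddCommGroup Y] (e : X →+ Y) (h2 : ∀ y : Y, y + y = 0)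
    (he : ∀ g ∈ M, e (g • z) = e z) : ∃ z' : X, (∀ g ∈ M, g • z' = z') ∧ e z' = e z := by
  classical
  let s : Finset X := (Set.toFinite (MulAction.orbit M z)).toFinset
  have hs : ∀ v, v ∈ s ↔ v ∈ MulAction.orbit M z := fun v => Set.Finite.mem_toFinset _
  refine ⟨∑ v ∈ s, v, fun g hg => ?_, ?_⟩
  · rw [Finset.smul_sum]
    refine Finset.sum_nbij' (fun v => g • v) (fun v => g⁻¹ • v) ?_ ?_ ?_ ?_ ?_
    · intro v hv
      rw [hs] at hv ⊢
      obtain ⟨k, rfl⟩ := hv
      exact ⟨⟨g, hg⟩ * k, mul_smul (g : K) (k : K) z⟩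
    · intro v hv
      rw [hs] at hv ⊢
      obtain ⟨k, rfl⟩ := hv
      exact ⟨⟨g, hg⟩⁻¹ * k, mul_smul (g⁻¹ : K) (k : K) z⟩
    · intro v _
      exact inv_smul_smul g v
    · intro v _
      exact smul_inv_smul g v
    · intro v _
      rfl
  · have h1 : ∀ v ∈ s, e v = e z := by
      intro v hv
      rw [hs] at hv
      obtain ⟨k, rfl⟩ := hv
      exact he k k.2
    rw [map_sum, Finset.sum_congr rfl h1, Finset.sum_const]
    have h3 : s.card = (MulAction.stabilizer M z).index := by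
      rw [MulAction.index_stabilizer]
      exact (Set.ncard_eq_toFinset_card _ _).symm
    have h4 : Odd s.card := by
      rw [h3, ← Nat.not_even_iff_odd]
      intro h5
      apply hodd
      have h6 : S.subgroupOf M ≤ MulAction.stabilizer M z := fun t ht => hz t ht
      exact h5.two_dvd.trans (index_dvd_of_le h6)
    obtain ⟨k, hk⟩ := h4
    rw [hk, add_smul, one_smul, mul_comm, mul_smul, two_smul, h2, smul_zero, zero_add]

/-- scalar multiplication by `F₂` -/
def sc (a : ZMod 2) (v : X) : X := if a = 0 then 0 else v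

omit [Finite X] in
theorem sc_add {v : X} (hv : v + v = 0) (a b : ZMod 2) : sc (a + b) v = sc a v + sc b v := by
  have h01 : ∀ a : ZMod 2, a = 0 ∨ a = 1 := by decide
  rcases h01 a with rfl | rfl <;> rcases h01 b with rfl | rfl
  · simp [sc]
  · simp [sc]
  · simp [sc]
  · rw [CharTwo.add_self_eq_zero]
    simp [sc, hv]

omit [Finite X] in
theorem map_sc {n : ℕ} (e : X →+ (Fin n → ZMod 2)) (a : ZMod 2) (v : X) : e (sc a v) = a • e v := by
  have h01 : ∀ a : ZMod 2, a = 0 ∨ a = 1 := by decide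
  rcases h01 a with rfl | rfl <;> simp [sc]

omit [Finite X] [Finite K] in
theorem smul_sc (g : K) (a : ZMod 2) (v : X) : g • (sc a v) = sc a (g • v) := by
  have h01 : ∀ a : ZMod 2, a = 0 ∨ a = 1 := by decide
  rcases h01 a with rfl | rfl <;> simp [sc]

theorem hat_single {m : ℕ} (i y : Fin (2 ^ m + 1)) : hat (Pi.single i 1) y = (if y = i then 1 else 0) + 1 := by
  unfold hat
  rw [Finset.sum_pi_single']
  simp [Pi.single_apply]

/-- **The splitting, abstract form.** -/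
theorem exists_eps {m : ℕ} (hm : 1 ≤ m) (π : K →* Equiv.Perm (Fin (2 ^ m + 1))) (hπ : Function.Surjective π)
    {S : Subgroup K} (hS : ¬ 2 ∣ S.index) (h0 : ∀ s ∈ S, π s 0 = 0) (e : X →+ (Fin (2 ^ m + 1) → ZMod 2))
    (he : ∀ g v x, e (g • v) (π g x) = e v x) {z : X} (hz : ∀ t ∈ S, t • z = z)
    (hez : e z = hat (Pi.single 0 1)) (hX : ∀ v : X, v + v = 0) :
    ∃ ε : (Fin (2 ^ m + 1) → ZMod 2) → X, (∀ x y, ε (x + y) = ε x + ε y) ∧ (∀ x, e (ε x) = hat x) ∧
      ε 1 = 0 ∧ ∀ g x, g • ε x = ε (x ∘ (π g).symm) := by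
  classical
  let M : Subgroup K := (MulAction.stabilizer (Equiv.Perm (Fin (2 ^ m + 1))) (0 : Fin (2 ^ m + 1))).comap π
  have hM : ∀ g, g ∈ M ↔ π g 0 = 0 := fun g => Iff.rfl
  have hSM : S ≤ M := fun s hs => (hM s).2 (h0 s hs)
  have hodd : ¬ 2 ∣ S.relIndex M := by
    intro h1
    apply hS
    rw [← relIndex_mul_index hSM]
    exact dvd_mul_of_dvd_left h1 _
  have hsing : ∀ (g : K) (v : X), e v = hat (Pi.single 0 1) → e (g • v) = hat (Pi.single (π g 0) 1) := by
    intro g v hv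
    funext y
    obtain ⟨x, rfl⟩ := (π g).surjective y
    rw [he, hv, hat_single, hat_single]
    simp [(π g).injective.eq_iff]
  obtain ⟨z', hz', hez'⟩ := exists_inv hodd hSM hz e
    (fun y => funext fun i => CharTwo.add_self_eq_zero (y i))
    (fun g hg => by rw [hsing g z hez, (hM g).1 hg, hez])
  rw [hez] at hez'
  choose r hr using fun i => hπ (Equiv.swap 0 i)
  have hr0 : ∀ i, π (r i) 0 = i := fun i => by rw [hr, Equiv.swap_apply_left]
  have key : ∀ g, g • z' = r (π g 0) • z' := by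
    intro g
    have h1 : (r (π g 0))⁻¹ * g ∈ M := by
      rw [hM, map_mul, map_inv, Equiv.Perm.mul_apply, Equiv.Perm.inv_eq_iff_eq]
      exact (hr0 _).symm
    have h2 := hz' _ h1
    rw [mul_smul, inv_smul_eq_iff] at h2
    exact h2
  have key2 : ∀ g i, g • r i • z' = r (π g i) • z' := by
    intro g i
    rw [← mul_smul, key, map_mul, Equiv.Perm.mul_apply, hr0]
  have hd : ∀ g : K, g • (∑ i, r i • z') = ∑ i, r i • z' := by
    intro g
    rw [Finset.smul_sum]
    simp_rw [key2]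
    exact Equiv.sum_comp (π g) fun i => r i • z'
  have hei : ∀ i, e (r i • z') = hat (Pi.single i 1) := fun i => by rw [hsing _ _ hez', hr0]
  have hcard : ((2 ^ m + 1 : ℕ) : ZMod 2) = 1 := cast_odd hm
  have hed : e (∑ i, r i • z') = 0 := by
    rw [map_sum]
    simp_rw [hei]
    funext y
    rw [Finset.sum_apply]
    simp_rw [hat_single]
    rw [Finset.sum_add_distrib]
    simp only [Finset.sum_ite_eq, Finset.mem_univ, if_true, Finset.sum_const, Finset.card_univ, Fintype.card_fin,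
      nsmul_eq_mul, mul_one, Pi.zero_apply]
    rw [hcard, CharTwo.add_self_eq_zero]
  have hw : ∑ i : Fin (2 ^ m + 1), (r i • z' + ∑ j, r j • z') = 0 := by
    have h5 : ∀ v : X, (2 ^ m : ℕ) • v = 0 := by
      intro v
      obtain ⟨k, hk⟩ : 2 ∣ 2 ^ m := dvd_pow_self 2 (by omega)
      rw [hk, mul_comm, mul_smul, two_smul, hX, smul_zero]
    rw [Finset.sum_add_distrib, Finset.sum_const, Finset.card_univ, Fintype.card_fin, add_smul, one_smul, h5,
      zero_add, hX]
  refine ⟨fun x => ∑ i, sc (x i) (r i • z' + ∑ j, r j • z'), ?_, ?_, ?_, ?_⟩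
  · intro x y
    simp only [Pi.add_apply]
    rw [← Finset.sum_add_distrib]
    exact Finset.sum_congr rfl fun i _ => sc_add (hX _) _ _
  · intro x
    rw [map_sum]
    simp_rw [map_sc, map_add, hed, add_zero, hei]
    funext y
    rw [Finset.sum_apply]
    simp only [Pi.smul_apply, smul_eq_mul]
    simp_rw [hat_single, mul_add, mul_one]
    rw [Finset.sum_add_distrib]
    simp [hat]
  · simp only [Pi.one_apply]
    rw [← hw]
    exact Finset.sum_congr rfl fun i _ => by simp [sc]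
  · intro g x
    rw [Finset.smul_sum]
    simp_rw [smul_sc, smul_add, hd, key2]
    rw [← Equiv.sum_comp (π g) fun i => sc ((x ∘ (π g).symm) i) (r i • z' + ∑ j, r j • z')]
    simp

end abstract

/-! ### The splitting in the group -/

section group

variable [Finite G]

/-- conjugation as an action on `Additive V` -/
@[reducible] def cact (hV : ∀ x ∈ V, ∀ y ∈ V, x * y = y * x) : AddCommGroup (Additive V) :=
  { (inferInstance : AddGroup (Additive V)) with
    add_comm := fun a b => congrArg Additive.ofMul (Subtype.ext (hV _ a.toMul.2 _ b.toMul.2)) }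

/-- conjugation as an action on `Additive V` -/
@[reducible] def dact (hV : ∀ x ∈ V, ∀ y ∈ V, x * y = y * x) (hH : H ≤ normalizer (V : Set G)) :
    letI := cact hV
    DistribMulAction H (Additive V) :=
  letI := cact hV
  { smul := fun g v => Additive.ofMul ⟨(g : G) * (v.toMul : G) * (g : G)⁻¹, (mem_normalizer_iff.1 (hH g.2) _).1 v.toMul.2⟩
    one_smul := fun v => by
      refine congrArg Additive.ofMul (Subtype.ext ?_)
      change (1 : G) * (v.toMul : G) * (1 : G)⁻¹ = v.toMul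
      group
    mul_smul := fun g g' v => by
      refine congrArg Additive.ofMul (Subtype.ext ?_)
      change (g * g' : G) * (v.toMul : G) * (g * g' : G)⁻¹ = g * (g' * (v.toMul : G) * (g' : G)⁻¹) * (g : G)⁻¹
      group
    smul_zero := fun g => by
      refine congrArg Additive.ofMul (Subtype.ext ?_)
      change (g : G) * 1 * (g : G)⁻¹ = 1
      group
    smul_add := fun g v w => by
      refine congrArg Additive.ofMul (Subtype.ext ?_)
      change (g : G) * ((v.toMul : G) * (w.toMul : G)) * (g : G)⁻¹ =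
        (g : G) * (v.toMul : G) * (g : G)⁻¹ * ((g : G) * (w.toMul : G) * (g : G)⁻¹)
      group }

/-- **The splitting from a fixed vector `z`.** -/
theorem exists_eps' (h : SymK T H V D 1 m) (hm : 1 ≤ m) (hH : H ≤ normalizer (V : Set G)) (hTH : T ≤ H)
    (hT2 : ¬ 2 ∣ T.relIndex H) (hVc : ∀ x ∈ V, ∀ y ∈ V, x * y = y * x) (hV2 : ∀ x ∈ V, x ^ 2 = 1)
    {z : G} (hz : z ∈ V) (hzT : ∀ t ∈ T, t * z = z * t) (hez : h.e z 0 = hat (Pi.single 0 1)) :
    ∃ ε : (Fin (2 ^ m + 1) → ZMod 2) → G, (∀ x, ε x ∈ V) ∧ (∀ x y, ε (x + y) = ε x * ε y) ∧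
      (∀ x, h.e (ε x) 0 = hat x) ∧ ε 1 = 1 ∧ ∀ g ∈ H, ∀ τ, Ac h g τ → Acts ε g τ := by
  let _ := cact hVc
  let _ := dact hVc hH
  let e : Additive V →+ (Fin (2 ^ m + 1) → ZMod 2) :=
    { toFun := fun v => h.e (v.toMul : G) 0
      map_zero' := by
        change h.e (1 : G) 0 = 0
        rw [e_one]
        rfl
      map_add' := fun v w => e_mul h v.toMul.2 w.toMul.2 }
  obtain ⟨ε, h1, h2, h3, h4⟩ := exists_eps (X := Additive V) (K := H) hm (hom h hH hm) (hom_surjective h hH hm)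
    (S := T.subgroupOf H) hT2 (fun s hs => hom_T h hH hTH hm (mem_subgroupOf.1 hs)) e
    (fun g v x => ac_hom h hH hm g _ v.toMul.2 x) (z := Additive.ofMul ⟨z, hz⟩)
    (fun t ht => by
      refine congrArg Additive.ofMul (Subtype.ext ?_)
      change (t : G) * z * (t : G)⁻¹ = z
      rw [hzT _ (mem_subgroupOf.1 ht), mul_inv_cancel_right])
    hez
    (fun v => by
      refine congrArg Additive.ofMul (Subtype.ext ?_)
      change (v.toMul : G) * (v.toMul : G) = 1
      rw [← pow_two]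
      exact hV2 _ v.toMul.2)
  refine ⟨fun x => ((ε x).toMul : G), fun x => (ε x).toMul.2, fun x y => ?_, h2, ?_, ?_⟩
  · exact congrArg (fun v : Additive V => (v.toMul : G)) (h1 x y)
  · change ((ε 1).toMul : G) = 1
    rw [h3]
    rfl
  · intro g hg τ hτ x
    have h5 := h4 ⟨g, hg⟩ x
    rw [hom_eq h hH hm ⟨g, hg⟩ hτ] at h5
    exact congrArg (fun v : Additive V => (v.toMul : G)) h5

/-- a fixed vector of `T` is in `D` or has `e z 0 = Ω - {0}` -/
theorem fixed_cases (h : SymK T H V D 1 m) (hm : 1 ≤ m) (hH : H ≤ normalizer (V : Set G)) (hTH : T ≤ H)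
    (hT2 : ¬ 2 ∣ T.relIndex H) {z : G} (hz : z ∈ V) (hzT : ∀ t ∈ T, t * z = z * t) :
    z ∈ D ∨ h.e z 0 = hat (Pi.single 0 1) := by
  classical
  have hconst : ∀ i j : Fin (2 ^ m + 1), i ≠ 0 → j ≠ 0 → h.e z 0 i = h.e z 0 j := by
    intro i j hi hj
    obtain ⟨t, ht, htij⟩ := trans_of_surj (hom h hH hm) (hom_surjective h hH hm) (S' := T.subgroupOf H) hT2
      (fun s hs => hom_T h hH hTH hm (mem_subgroupOf.1 hs)) hi hj
    have h1 := ac_hom h hH hm t z hz i
    rw [htij, hzT _ (mem_subgroupOf.1 ht), mul_inv_cancel_right] at h1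
    exact h1.symm
  have h1 : (1 : Fin (2 ^ m + 1)) ≠ 0 := by
    intro h3
    have h4 := congrArg Fin.val h3
    have h5 : 2 ^ 1 ≤ 2 ^ m := Nat.pow_le_pow_right (by norm_num) hm
    rw [Fin.val_one', Fin.val_zero, Nat.mod_eq_of_lt (by omega)] at h4
    exact one_ne_zero h4
  have hsum := h.even z hz 0
  rw [← Finset.add_sum_erase _ _ (Finset.mem_univ 0)] at hsum
  have hsum2 : ∑ x ∈ Finset.univ.erase (0 : Fin (2 ^ m + 1)), h.e z 0 x = 0 := by
    rw [Finset.sum_congr rfl fun x hx => hconst x 1 (Finset.ne_of_mem_erase hx) h1, Finset.sum_const,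
      Finset.card_erase_of_mem (Finset.mem_univ _), Finset.card_univ, Fintype.card_fin, Nat.add_sub_cancel,
      nsmul_eq_mul]
    have h6 : ((2 ^ m : ℕ) : ZMod 2) = 0 := by
      rw [ZMod.natCast_eq_zero_iff]
      exact dvd_pow_self 2 (by omega)
    rw [h6, zero_mul]
  rw [hsum2, add_zero] at hsum
  have h01 : ∀ a : ZMod 2, a = 0 ∨ a = 1 := by decide
  rcases h01 (h.e z 0 1) with h2 | h2
  · left
    rw [← e_eq_zero h hz]
    funext x
    by_cases hx : x = 0
    · subst hx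
      exact hsum
    · rw [hconst x 1 hx h1, h2]
      rfl
  · right
    funext x
    rw [hat_single]
    by_cases hx : x = 0
    · subst hx
      rw [hsum, if_pos rfl, CharTwo.add_self_eq_zero]
    · rw [hconst x 1 hx h1, h2, if_neg hx, zero_add]

/-- the coordinates of `z` for `z ∈ Z - D` -/
theorem exists_z {T H D : Subgroup G} (h : SymK T H (zl T H) D 1 m) (hm : 1 ≤ m) (hTH : T ≤ H)
    (hT2 : ¬ 2 ∣ T.relIndex H) (hD : H ≤ normalizer (D : Set G)) :
    ∃ z ∈ zc T, h.e z 0 = hat (Pi.single 0 1) := by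
  classical
  have hH := le_normalizer_zl T H
  by_contra hcon
  push Not at hcon
  have h1 : zc T ≤ D := fun z hz =>
    (fixed_cases h hm hH hTH hT2 (zc_le_zl T H hz) fun t ht => (mem_zc.1 hz).2.1 t ht).resolve_right (hcon z hz)
  have h2 : zl T H ≤ D := zl_le h1 hD
  obtain ⟨v, hv, hev⟩ := exists_e h (sum_hat hm (Pi.single 0 1))
  have h3 := (e_eq_zero h hv).2 (h2 hv)
  rw [hev] at h3
  have h4 := (hat_eq_zero_iff hm _).1 h3
  rcases h4 with h4 | h4
  · have h5 := congrFun h4 0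
    simp at h5
  · obtain ⟨j, hj⟩ : ∃ j : Fin (2 ^ m + 1), j ≠ 0 := by
      have h5 : 2 ^ 1 ≤ 2 ^ m := Nat.pow_le_pow_right (by norm_num) hm
      exact ⟨⟨1, by omega⟩, fun h6 => by simpa using congrArg Fin.val h6⟩
    have h5 := congrFun h4 j
    rw [Pi.single_eq_of_ne hj, Pi.one_apply] at h5
    exact zero_ne_one h5

/-- **The module of a member of type `S_{2^m+1}`**: `V = D × A`, `D` is centralised by `H` and `A` is the even-subset
module. -/
structure Spl (T H V D A : Subgroup G) (m : ℕ) (ε : (Fin (2 ^ m + 1) → ZMod 2) → G) : Prop where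
  even : EvenSet (2 ^ m + 1) A H ε
  fix0 : Fix0 ε T
  sup : A ⊔ D = V
  inf : A ⊓ D = ⊥
  cent : H ≤ centralizer (D : Set G)

omit [Finite G] in
theorem mem_sup_comm {X Y : Subgroup G} (hc : ∀ x ∈ X, ∀ y ∈ Y, x * y = y * x) {u : G} (hu : u ∈ X ⊔ Y) :
    ∃ x ∈ X, ∃ y ∈ Y, u = x * y := by
  rw [sup_eq_closure] at hu
  refine closure_induction (p := fun u _ => ∃ x ∈ X, ∃ y ∈ Y, u = x * y) ?_ ?_ ?_ ?_ hu
  · rintro x (hx | hx)
    · exact ⟨x, hx, 1, Y.one_mem, (mul_one _).symm⟩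
    · exact ⟨1, X.one_mem, x, hx, (one_mul _).symm⟩
  · exact ⟨1, X.one_mem, 1, Y.one_mem, (one_mul _).symm⟩
  · rintro _ _ _ _ ⟨x, hx, y, hy, rfl⟩ ⟨x', hx', y', hy', rfl⟩
    refine ⟨x * x', X.mul_mem hx hx', y * y', Y.mul_mem hy hy', ?_⟩
    rw [mul_assoc, ← mul_assoc y, ← hc x' hx' y hy, mul_assoc, mul_assoc]
  · rintro _ _ ⟨x, hx, y, hy, rfl⟩
    refine ⟨x⁻¹, X.inv_mem hx, y⁻¹, Y.inv_mem hy, ?_⟩
    rw [mul_inv_rev, hc _ (X.inv_mem hx) _ (Y.inv_mem hy)]

theorem exists_spl (h : SymK T H (zl T H) (cv T H) 1 m) (hm : 1 ≤ m) (hT : Syl T H)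
    (hc : H ⊓ centralizer (o2 H : Set G) ≤ o2 H) :
    ∃ A ε, Spl T H (zl T H) (cv T H) A m ε ∧ (∀ x, h.e (ε x) 0 = hat x) ∧
      ∀ g ∈ H, ∀ τ, Ac h g τ ↔ Acts ε g τ := by
  have hm2 := three_le hm
  have hTH := hT.1
  have hT2 := syl_not_dvd hT
  have hH := le_normalizer_zl T H
  have hVc := zl_comm hTH hT.2.1 hT2 hc
  have hV2 := zl_sq hTH hT.2.1 hT2 hc
  have hDV : cv T H ≤ zl T H := inf_le_left
  have hO : H ≤ normalizer (oddGen H : Set G) := le_normalizer_oddGen H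
  have hDn : ∀ g ∈ H, ∀ d ∈ cv T H, g * d * g⁻¹ ∈ cv T H := by
    intro g hg d hd
    refine ⟨(mem_normalizer_iff.1 (hH hg) _).1 hd.1, mem_centralizer_iff.2 fun o ho => ?_⟩
    have h1 : g⁻¹ * o * g ∈ oddGen H := by
      have := (mem_normalizer_iff.1 (hO (inv_mem hg)) o).1 ho
      rwa [inv_inv] at this
    have h2 := mem_centralizer_iff.1 hd.2 _ h1
    calc o * (g * d * g⁻¹) = g * ((g⁻¹ * o * g) * d) * g⁻¹ := by group
      _ = g * (d * (g⁻¹ * o * g)) * g⁻¹ := by rw [h2]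
      _ = g * d * g⁻¹ * o := by group
  have hDN : H ≤ normalizer (cv T H : Set G) := by
    intro g hg
    rw [mem_normalizer_iff]
    refine fun d => ⟨hDn g hg d, fun hd => ?_⟩
    have h1 := hDn g⁻¹ (inv_mem hg) _ hd
    have e : g⁻¹ * (g * d * g⁻¹) * g⁻¹⁻¹ = d := by group
    rwa [e] at h1
  obtain ⟨z, hz, hez⟩ := exists_z h hm hTH hT2 hDN
  obtain ⟨ε, he1, he2, he3, he4, he5⟩ := exists_eps' h hm hH hTH hT2 hVc hV2 (zc_le_zl T H hz)
    (fun t ht => (mem_zc.1 hz).2.1 t ht) hez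
  have h0 : ε 0 = 1 := by
    have h1 := he2 0 0
    rw [add_zero] at h1
    exact (left_eq_mul.1 h1)
  have hinv : ∀ x, (ε x)⁻¹ = ε x := fun x => by
    rw [inv_eq_iff_mul_eq_one, ← he2, add_self, h0]
  let A : Subgroup G :=
    { carrier := Set.range ε
      one_mem' := ⟨0, h0⟩
      mul_mem' := by
        rintro _ _ ⟨x, rfl⟩ ⟨y, rfl⟩
        exact ⟨x + y, he2 x y⟩
      inv_mem' := by
        rintro _ ⟨x, rfl⟩
        exact ⟨x, (hinv x).symm⟩ }
  have hA : ∀ x, ε x ∈ A := fun x => ⟨x, rfl⟩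
  have hker : ∀ x, ε x = 1 ↔ x = 0 ∨ x = 1 := by
    intro x
    constructor
    · intro h1
      rw [← hat_eq_zero_iff hm, ← he3, h1, e_one]
      rfl
    · rintro (rfl | rfl)
      · exact h0
      · exact he4
  have hES : EvenSet (2 ^ m + 1) A H ε :=
    { add := he2
      mem := hA
      surj := fun v hv => hv
      ker := hker
      perm := fun g hg => by
        obtain ⟨τ, hτ⟩ := exists_ac h hg
        exact ⟨τ, he5 g hg τ hτ⟩
      full := fun τ => by
        obtain ⟨g, hg, hτ⟩ := exists_of_perm h τ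
        exact ⟨g, hg, he5 g hg τ hτ⟩ }
  have hac : ∀ g ∈ H, ∀ τ, Ac h g τ ↔ Acts ε g τ := by
    intro g hg τ
    refine ⟨he5 g hg τ, fun h1 => ?_⟩
    obtain ⟨τ', hτ'⟩ := exists_ac h hg
    rw [hES.acts_unique hm2 h1 (he5 g hg τ' hτ')]
    exact hτ'
  have hinf : A ⊓ cv T H = ⊥ := by
    rw [eq_bot_iff]
    rintro _ ⟨⟨x, rfl⟩, hx⟩
    rw [mem_bot, hker, ← hat_eq_zero_iff hm, ← he3]
    exact (e_eq_zero h (he1 x)).2 hx
  have hAV : A ≤ zl T H := by
    rintro _ ⟨x, rfl⟩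
    exact he1 x
  have hsup : A ⊔ cv T H = zl T H := by
    refine le_antisymm (sup_le hAV hDV) fun v hv => ?_
    have h1 : (ε (h.e v 0))⁻¹ * v ∈ cv T H := by
      rw [hinv, ← e_eq_zero h (mul_mem (he1 _) hv), e_mul h (he1 _) hv, he3]
      funext x
      have h2 : hat (h.e v 0) x = h.e v 0 x := by
        unfold hat
        rw [h.even v hv 0, add_zero]
      rw [Pi.add_apply, h2]
      exact CharTwo.add_self_eq_zero _
    have e : v = ε (h.e v 0) * ((ε (h.e v 0))⁻¹ * v) := by group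
    rw [e]
    exact mul_mem_sup (hA _) h1
  have hcomm : ∀ x ∈ A, ∀ y ∈ cv T H, x * y = y * x := fun x hx y hy => hVc x (hAV hx) y (hDV hy)
  have hAN := hES.le_normalizer
  -- `D` is centralised by `H`
  have hC : zc T ≤ A ⊔ (cv T H ⊓ centralizer (H : Set G)) := by
    intro v hv
    have hvV := zc_le_zl T H hv
    rw [← hsup] at hvV
    obtain ⟨a, ha, d, hd, rfl⟩ := mem_sup_comm hcomm hvV
    refine mul_mem_sup ha ⟨hd, ?_⟩
    have h1 : T ≤ centralizer ({d} : Set G) := by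
      intro t ht
      rw [mem_centralizer_singleton_iff]
      have h2 : t * (a * d) = a * d * t := (mem_zc.1 hv).2.1 t ht
      have h3 : t * a * t⁻¹ ∈ A := (mem_normalizer_iff.1 (hAN (hTH ht)) _).1 ha
      have h4 : t * d * t⁻¹ ∈ cv T H := hDn t (hTH ht) d hd
      have h5 : a⁻¹ * (t * a * t⁻¹) = d * (t * d * t⁻¹)⁻¹ := by
        have h6 : a * d = t * a * t⁻¹ * (t * d * t⁻¹) := by
          calc a * d = t * (a * d) * t⁻¹ := by rw [h2, mul_inv_cancel_right]
            _ = _ := by group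
        rw [inv_mul_eq_iff_eq_mul, ← mul_assoc, eq_mul_inv_iff_mul_eq]
        exact h6.symm
      have h6 : d * (t * d * t⁻¹)⁻¹ ∈ A ⊓ cv T H := by
        refine ⟨?_, (cv T H).mul_mem hd ((cv T H).inv_mem h4)⟩
        rw [← h5]
        exact A.mul_mem (A.inv_mem ha) h3
      rw [hinf, mem_bot, mul_inv_eq_one] at h6
      calc t * d = t * d * t⁻¹ * t := by group
        _ = d * t := by rw [← h6]
    have h2 : oddGen H ≤ centralizer ({d} : Set G) := by
      intro o ho
      rw [mem_centralizer_singleton_iff]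
      exact mem_centralizer_iff.1 hd.2 o ho
    have h3 : H ≤ centralizer ({d} : Set G) := by
      rw [← Cfsg.Agent.Omega.NO3b.EZero.oddGen_sup_syl hT]
      exact sup_le h2 h1
    exact mem_centralizer_iff.2 fun g hg => mem_centralizer_singleton_iff.1 (h3 hg)
  have hC2 : zl T H ≤ A ⊔ (cv T H ⊓ centralizer (H : Set G)) := by
    refine zl_le hC ?_
    intro g hg
    rw [mem_normalizer_iff_map_conj_eq, Subgroup.map_sup]
    congr 1
    · exact mem_normalizer_iff_map_conj_eq.1 (hAN hg)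
    · refine mem_normalizer_iff_map_conj_eq.1 ?_
      refine (centralizer_le_normalizer _) (mem_centralizer_iff.2 fun d hd => ?_)
      exact (mem_centralizer_iff.1 hd.2 g hg).symm
  refine ⟨A, ε, ⟨hES, ?_, hsup, hinf, ?_⟩, he3, hac⟩
  · intro s hs σ hσ
    rw [hES.acts_unique hm2 hσ ((hac s (hTH hs) _).1 (ac_hom h hH hm ⟨s, hTH hs⟩))]
    exact hom_T h hH hTH hm hs
  · intro g hg
    refine mem_centralizer_iff.2 fun d hd => ?_
    obtain ⟨a, ha, d', hd', rfl⟩ := mem_sup_comm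
      (fun x hx y (hy : y ∈ cv T H ⊓ centralizer (H : Set G)) => hcomm x hx y (mem_inf.1 hy).1) (hC2 (hDV hd))
    have h1 : a ∈ A ⊓ cv T H := by
      refine ⟨ha, ?_⟩
      have := mul_mem hd (inv_mem hd'.1)
      rwa [mul_inv_cancel_right] at this
    rw [hinf, mem_bot] at h1
    rw [h1, one_mul]
    exact (mem_centralizer_iff.1 hd'.2 g hg).symm

end group

end Cfsg.Agent.Omega.F4.Split

end

section


/-!
# II.d, `SwCv`: the module of a member with `k` factors `S_{2^m+1}` splits (helper123, for helper971 #18015)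

`M : SymK T H V D k m`, `V = zl T H`, `D = cv T H = C_V(O²(H))`: there are labels `ε i x` of the `k` even-subset
modules which are permuted by `H`, and `H` centralises `D` (`exists_spl`).
-/

set_option autoImplicit false
set_option linter.unusedSectionVars false

namespace Cfsg.Agent.Omega.IId.SwCv.Spl

open Subgroup Pointwise Cfsg Cfsg.Agent.ZN Cfsg.Agent.Omega.FFThm Cfsg.Agent.Omega.S5.Def Cfsg.Agent.Omega.S5.Of
open Cfsg.Agent.ZN.ChoiceSit (Syl syl_not_dvd)
open Cfsg.Agent.Omega.FrameFF (cv)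
open Cfsg.Agent.MinSimple.VModule
open Cfsg.Agent.Omega.F4.Split (exists_inv sc sc_add smul_sc hat_single exists_sep cact dact trans_of_surj
  mem_sup_comm)

universe u

/-! ### The abstract splitting -/

section abstract

variable {X : Type*} [AddCommGroup X] [Finite X] {K : Type*} [Group K] [Finite K] [DistribMulAction K X] {k m : ℕ}

theorem map_sc' {ι : Type*} (e : X →+ (ι → ZMod 2)) (a : ZMod 2) (v : X) : e (sc a v) = a • e v := by
  have h01 : ∀ a : ZMod 2, a = 0 ∨ a = 1 := by decide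
  rcases h01 a with rfl | rfl <;> simp [sc]

/-- **The splitting, abstract form.** -/
theorem exists_E (hm : 1 ≤ m) (p : K →* Equiv.Perm (Fin k × Fin (2 ^ m + 1)))
    (hblk : ∀ g, ∃ (σ : Equiv.Perm (Fin k)) (τ : Fin k → Equiv.Perm (Fin (2 ^ m + 1))),
      ∀ i x, p g (i, x) = (σ i, τ i x))
    (hlift : ∀ τ : Fin k → Equiv.Perm (Fin (2 ^ m + 1)), ∃ g, ∀ i x, p g (i, x) = (i, τ i x))
    {i₀ : Fin k} (htr : ∀ j, ∃ g, (p g (i₀, 0)).1 = j) {S M : Subgroup K} (hS : ¬ 2 ∣ S.relIndex M)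
    (hM : ∀ g, g ∈ M ↔ p g (i₀, 0) = (i₀, 0)) (h0 : ∀ s ∈ S, p s (i₀, 0) = (i₀, 0)) (e : X →+ (Fin k × Fin (2 ^ m + 1) → ZMod 2))
    (he : ∀ g v w, e (g • v) (p g w) = e v w) (heven : ∀ v i, ∑ x, e v (i, x) = 0) {z : X}
    (hz : ∀ s ∈ S, s • z = z) (hez : ∀ x, e z (i₀, x) = hat (Pi.single 0 1) x) (hX : ∀ v : X, v + v = 0) :
    ∃ E : (Fin k × Fin (2 ^ m + 1) → ZMod 2) → X, (∀ x y, E (x + y) = E x + E y) ∧
      (∀ y w, e (E y) w = y w + ∑ x, y (w.1, x)) ∧ (∀ y, (∀ i x x', y (i, x) = y (i, x')) → E y = 0) ∧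
      ∀ g y, g • E y = E (y ∘ (p g).symm) := by
  classical
  have hSM : S ≤ M := fun s hs => (hM s).2 (h0 s hs)
  have hcard : ((2 ^ m + 1 : ℕ) : ZMod 2) = 1 := cast_odd hm
  -- the fixed vector
  let e0 : X →+ (Fin (2 ^ m + 1) → ZMod 2) :=
    { toFun := fun v x => e v (i₀, x)
      map_zero' := by funext x; rw [map_zero]; rfl
      map_add' := fun v w => by funext x; rw [map_add]; rfl }
  have he0 : ∀ v x, e0 v x = e v (i₀, x) := fun v x => rfl
  obtain ⟨z', hz', hez'⟩ := exists_inv hS hSM hz e0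
    (fun y => funext fun i => CharTwo.add_self_eq_zero (y i))
    (fun g hg => by
      funext y
      obtain ⟨σ, τ, hg1⟩ := hblk g
      have h1 : σ i₀ = i₀ ∧ τ i₀ 0 = 0 := by
        have := (hM g).1 hg
        rw [hg1] at this
        exact Prod.ext_iff.1 this
      obtain ⟨x, rfl⟩ := (τ i₀).surjective y
      have h2 : p g (i₀, x) = (i₀, τ i₀ x) := by rw [hg1, h1.1]
      have h3 := he g z (i₀, x)
      rw [h2] at h3
      rw [he0, he0, h3, hez, hez, hat_single, hat_single]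
      congr 1
      exact if_congr ⟨fun h => by rw [h, h1.2], fun h => (τ i₀).injective (h.trans h1.2.symm)⟩ rfl rfl)
  have hez1 : ∀ x, e z' (i₀, x) = (if x = 0 then 1 else 0) + 1 := by
    intro x
    rw [← hat_single, ← hez, ← he0, ← he0, hez']
  have hez2 : ∀ j x, j ≠ i₀ → e z' (j, x) = 0 := by
    intro j x hj
    have h1 : ∀ y, e z' (j, y) = e z' (j, x) := by
      intro y
      obtain ⟨g, hg⟩ := hlift (Function.update 1 j (Equiv.swap x y))
      have h2 : g ∈ M := by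
        rw [hM, hg, Function.update_of_ne (Ne.symm hj)]
        rfl
      have h3 := he g z' (j, x)
      rw [hz' g h2, hg, Function.update_self, Equiv.swap_apply_left] at h3
      exact h3
    have h2 := heven z' j
    rw [Finset.sum_congr rfl fun y _ => h1 y, Finset.sum_const, Finset.card_univ, Fintype.card_fin, nsmul_eq_mul,
      hcard, one_mul] at h2
    exact h2
  -- transitivity
  have htr' : ∀ w, ∃ g, p g (i₀, 0) = w := by
    rintro ⟨j, y⟩
    obtain ⟨g, hg⟩ := htr j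
    obtain ⟨l, hl⟩ := hlift (Function.update 1 j (Equiv.swap (p g (i₀, 0)).2 y))
    refine ⟨l * g, ?_⟩
    have h1 : p g (i₀, 0) = (j, (p g (i₀, 0)).2) := Prod.ext hg rfl
    rw [map_mul, Equiv.Perm.mul_apply, h1, hl, Function.update_self, Equiv.swap_apply_left]
  choose r hr using htr'
  have key : ∀ g, g • z' = r (p g (i₀, 0)) • z' := by
    intro g
    have h1 : (r (p g (i₀, 0)))⁻¹ * g ∈ M := by
      rw [hM, map_mul, map_inv, Equiv.Perm.mul_apply, Equiv.Perm.inv_eq_iff_eq]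
      exact (hr _).symm
    have h2 := hz' _ h1
    rw [mul_smul, inv_smul_eq_iff] at h2
    exact h2
  have key2 : ∀ g w, g • r w • z' = r (p g w) • z' := by
    intro g w
    rw [← mul_smul, key, map_mul, Equiv.Perm.mul_apply, hr]
  -- coordinates
  have hez3 : ∀ w u, e (r w • z') u = if u.1 = w.1 then (if u.2 = w.2 then 1 else 0) + 1 else 0 := by
    intro w u
    obtain ⟨u', rfl⟩ := (p (r w)).surjective u
    obtain ⟨σ, τ, h1⟩ := hblk (r w)
    have h2 : w = (σ i₀, τ i₀ 0) := by rw [← h1, hr]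
    obtain ⟨j, y⟩ := u'
    rw [he, h1]
    have h3 : w.1 = σ i₀ := by rw [h2]
    have h4 : w.2 = τ i₀ 0 := by rw [h2]
    rw [h3, h4]
    simp only
    by_cases hj : j = i₀
    · subst hj
      rw [if_pos rfl, hez1]
      congr 1
      exact if_congr ⟨fun h => by rw [h], fun h => (τ j).injective h⟩ rfl rfl
    · rw [if_neg fun h => hj (σ.injective h), hez2 _ _ hj]
  have hd : ∀ (g : K) i, g • (∑ x, r (i, x) • z') = ∑ x, r ((p g (i, 0)).1, x) • z' := by
    intro g i
    obtain ⟨σ, τ, h1⟩ := hblk g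
    rw [Finset.smul_sum]
    simp_rw [key2, h1]
    exact Equiv.sum_comp (τ i) fun x => r (σ i, x) • z'
  have hd' : ∀ (g : K) (w : Fin k × Fin (2 ^ m + 1)), g • (∑ x, r (w.1, x) • z') = ∑ x, r ((p g w).1, x) • z' := by
    intro g w
    obtain ⟨σ, τ, h1⟩ := hblk g
    rw [hd, h1]
    have : (p g w).1 = σ w.1 := by
      rw [show w = (w.1, w.2) from rfl, h1]
    rw [this]
  have hed : ∀ i, e (∑ x, r (i, x) • z') = 0 := by
    intro i
    rw [map_sum]
    funext u
    rw [Finset.sum_apply]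
    simp_rw [hez3]
    rw [Pi.zero_apply]
    by_cases hu : u.1 = i
    · simp only [hu, if_true]
      rw [Finset.sum_add_distrib]
      simp only [Finset.sum_ite_eq, Finset.mem_univ, if_true, Finset.sum_const, Finset.card_univ, Fintype.card_fin,
        nsmul_eq_mul, mul_one]
      rw [hcard, CharTwo.add_self_eq_zero]
    · simp [hu]
  have h5 : ∀ v : X, (2 ^ m : ℕ) • v = 0 := by
    intro v
    obtain ⟨l, hl⟩ : 2 ∣ 2 ^ m := dvd_pow_self 2 (by omega)
    rw [hl, mul_comm, mul_smul, two_smul, hX, smul_zero]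
  have hw : ∀ i, ∑ x : Fin (2 ^ m + 1), (r (i, x) • z' + ∑ y, r (i, y) • z') = 0 := by
    intro i
    rw [Finset.sum_add_distrib, Finset.sum_const, Finset.card_univ, Fintype.card_fin, add_smul, one_smul, h5,
      zero_add, hX]
  refine ⟨fun y => ∑ w : Fin k × Fin (2 ^ m + 1), sc (y w) (r w • z' + ∑ x, r (w.1, x) • z'), ?_, ?_, ?_, ?_⟩
  · intro x y
    simp only [Pi.add_apply]
    rw [← Finset.sum_add_distrib]
    exact Finset.sum_congr rfl fun i _ => sc_add (hX _) _ _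
  · intro y u
    rw [map_sum]
    simp_rw [map_sc', map_add, hed, add_zero]
    rw [Finset.sum_apply]
    simp only [Pi.smul_apply, smul_eq_mul]
    simp_rw [hez3]
    rw [Fintype.sum_prod_type]
    rw [Finset.sum_eq_single u.1]
    · simp only [if_true]
      simp_rw [mul_add, mul_one]
      rw [Finset.sum_add_distrib]
      congr 1
      simp
    · intro j _ hj
      refine Finset.sum_eq_zero fun x _ => ?_
      rw [if_neg (Ne.symm hj), mul_zero]
    · intro h
      exact absurd (Finset.mem_univ _) h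
  · intro y hy
    change ∑ w : Fin k × Fin (2 ^ m + 1), sc (y w) (r w • z' + ∑ x, r (w.1, x) • z') = 0
    rw [Fintype.sum_prod_type]
    refine Finset.sum_eq_zero fun i _ => ?_
    have h6 : ∀ x, sc (y (i, x)) (r (i, x) • z' + ∑ x', r (i, x') • z') =
        sc (y (i, 0)) (r (i, x) • z' + ∑ x', r (i, x') • z') := fun x => by rw [hy i x 0]
    simp only [h6]
    have h01 : ∀ a : ZMod 2, a = 0 ∨ a = 1 := by decide
    rcases h01 (y (i, 0)) with h7 | h7
    · rw [h7]
      simp [sc]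
    · rw [h7]
      simp only [sc, one_ne_zero, if_false]
      exact hw i
  · intro g y
    rw [Finset.smul_sum]
    simp_rw [smul_sc, smul_add, hd', key2]
    rw [← Equiv.sum_comp (p g) fun w => sc ((y ∘ (p g).symm) w) (r w • z' + ∑ x, r (w.1, x) • z')]
    simp

end abstract

/-! ### The action on the points -/

section basic

variable {G : Type u} [Group G] {T H V D : Subgroup G} {k m : ℕ} (h : SymK T H V D k m)

/-- `g` acts on the points of all blocks as `p` -/
def Ac (g : G) (p : Equiv.Perm (Fin k × Fin (2 ^ m + 1))) : Prop :=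
  ∀ v ∈ V, ∀ w, h.e (g * v * g⁻¹) (p w).1 (p w).2 = h.e v w.1 w.2

theorem ac_iff {g : G} {σ : Equiv.Perm (Fin k)} {τ : Fin k → Equiv.Perm (Fin (2 ^ m + 1))} :
    ActsSym h.e V g σ τ ↔ Ac h g (Equiv.prodShear σ τ) := by
  constructor
  · rintro h1 v hv ⟨i, x⟩
    exact h1 v hv i x
  · intro h1 v hv i x
    exact h1 v hv (i, x)

theorem exists_ac {g : G} (hg : g ∈ H) : ∃ p, Ac h g p := by
  obtain ⟨σ, τ, h1⟩ := h.perm g hg
  exact ⟨_, (ac_iff h).1 h1⟩

theorem e_one : h.e 1 = 0 := by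
  have h1 := h.mul 1 V.one_mem 1 V.one_mem
  rw [mul_one] at h1
  exact left_eq_add.mp h1

/-- even vectors separate points -/
theorem exists_sep' (hm : 1 ≤ m) {w w' : Fin k × Fin (2 ^ m + 1)} (hw : w ≠ w') :
    ∃ v ∈ V, h.e v w.1 w.2 = 1 ∧ h.e v w'.1 w'.2 = 0 := by
  classical
  by_cases h1 : w.1 = w'.1
  · have h2 : w.2 ≠ w'.2 := fun h3 => hw (Prod.ext h1 h3)
    obtain ⟨y, hy, hy1, hy0⟩ := exists_sep hm h2
    obtain ⟨v, hv, e⟩ := h.surj (Pi.single w.1 y) fun i => by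
      by_cases hi : i = w.1
      · subst hi
        rw [Pi.single_eq_same]
        exact hy
      · rw [Pi.single_eq_of_ne hi]
        simp
    refine ⟨v, hv, ?_, ?_⟩
    · rw [e, Pi.single_eq_same]
      exact hy1
    · rw [e, ← h1, Pi.single_eq_same]
      exact hy0
  · obtain ⟨j, hj⟩ : ∃ j : Fin (2 ^ m + 1), w.2 ≠ j := by
      have : Nontrivial (Fin (2 ^ m + 1)) := Fin.nontrivial_iff_two_le.2 (by
        have : 2 ^ 1 ≤ 2 ^ m := Nat.pow_le_pow_right (by norm_num) hm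
        omega)
      obtain ⟨j, hj⟩ := exists_ne w.2
      exact ⟨j, hj.symm⟩
    obtain ⟨y, hy, hy1, -⟩ := exists_sep hm hj
    obtain ⟨v, hv, e⟩ := h.surj (Pi.single w.1 y) fun i => by
      by_cases hi : i = w.1
      · subst hi
        rw [Pi.single_eq_same]
        exact hy
      · rw [Pi.single_eq_of_ne hi]
        simp
    refine ⟨v, hv, ?_, ?_⟩
    · rw [e, Pi.single_eq_same]
      exact hy1
    · rw [e, Pi.single_eq_of_ne (Ne.symm h1)]
      rfl

theorem ac_unique (hm : 1 ≤ m) {g : G} {p p' : Equiv.Perm (Fin k × Fin (2 ^ m + 1))} (h1 : Ac h g p)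
    (h2 : Ac h g p') : p = p' := by
  ext1 w
  by_contra hne
  have hw : w ≠ p.symm (p' w) := fun h3 => hne (by nth_rewrite 1 [h3]; rw [Equiv.apply_symm_apply])
  obtain ⟨v, hv, hv1, hv0⟩ := exists_sep' h hm hw
  have h3 := h1 v hv (p.symm (p' w))
  rw [Equiv.apply_symm_apply, h2 v hv w, hv0, hv1] at h3
  exact one_ne_zero h3

variable (hH : H ≤ normalizer (V : Set G))
include hH

theorem ac_mul {g g' : G} (hg' : g' ∈ H) {p p' : Equiv.Perm (Fin k × Fin (2 ^ m + 1))} (h1 : Ac h g p)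
    (h2 : Ac h g' p') : Ac h (g * g') (p * p') := by
  intro v hv w
  have hv' : g' * v * g'⁻¹ ∈ V := (mem_normalizer_iff.1 (hH hg') _).1 hv
  have e : g * g' * v * (g * g')⁻¹ = g * (g' * v * g'⁻¹) * g⁻¹ := by group
  rw [e, Equiv.Perm.mul_apply, h1 _ hv', h2 v hv]

theorem ac_one : Ac h 1 1 := by
  intro v hv x
  have _ := hH
  have e : (1 : G) * v * 1⁻¹ = v := by group
  rw [e]
  rfl

/-- the permutation representation on the points of all blocks -/
noncomputable def hom (hm : 1 ≤ m) : H →* Equiv.Perm (Fin k × Fin (2 ^ m + 1)) where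
  toFun g := (exists_ac h g.2).choose
  map_one' := ac_unique h hm (exists_ac h (1 : H).2).choose_spec (ac_one h hH)
  map_mul' g g' := ac_unique h hm (exists_ac h (g * g').2).choose_spec
    (ac_mul h hH g'.2 (exists_ac h g.2).choose_spec (exists_ac h g'.2).choose_spec)

theorem ac_hom (hm : 1 ≤ m) (g : H) : Ac h (g : G) (hom h hH hm g) := (exists_ac h g.2).choose_spec

theorem hom_eq (hm : 1 ≤ m) (g : H) {p : Equiv.Perm (Fin k × Fin (2 ^ m + 1))} (h1 : Ac h (g : G) p) :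
    hom h hH hm g = p := ac_unique h hm (ac_hom h hH hm g) h1

theorem hom_sym (hm : 1 ≤ m) (g : H) {σ : Equiv.Perm (Fin k)} {τ : Fin k → Equiv.Perm (Fin (2 ^ m + 1))}
    (h1 : ActsSym h.e V (g : G) σ τ) (i : Fin k) (x : Fin (2 ^ m + 1)) : hom h hH hm g (i, x) = (σ i, τ i x) := by
  rw [hom_eq h hH hm g ((ac_iff h).1 h1)]
  rfl

theorem hom_blk (hm : 1 ≤ m) (g : H) : ∃ (σ : Equiv.Perm (Fin k)) (τ : Fin k → Equiv.Perm (Fin (2 ^ m + 1))),
    ActsSym h.e V (g : G) σ τ ∧ ∀ i x, hom h hH hm g (i, x) = (σ i, τ i x) := by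
  obtain ⟨σ, τ, h1⟩ := h.perm g g.2
  exact ⟨σ, τ, h1, fun i x => hom_sym h hH hm g h1 i x⟩

theorem hom_lift (hm : 1 ≤ m) (τ : Fin k → Equiv.Perm (Fin (2 ^ m + 1))) :
    ∃ g : H, ∀ i x, hom h hH hm g (i, x) = (i, τ i x) := by
  obtain ⟨g, hg, h1, -⟩ := h.lift τ
  exact ⟨⟨g, hg⟩, fun i x => hom_sym h hH hm ⟨g, hg⟩ h1 i x⟩

theorem hom_T (hTH : T ≤ H) (hm : 1 ≤ m) {t : G} (ht : t ∈ T) (i : Fin k) :
    (hom h hH hm ⟨t, hTH ht⟩ (i, 0)).2 = 0 := by
  obtain ⟨σ, τ, h1, h2⟩ := hom_blk h hH hm ⟨t, hTH ht⟩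
  rw [h2]
  exact h.fix0 t ht σ τ h1 i

theorem hom_T_trans (hTH : T ≤ H) (hm : 1 ≤ m) (i j : Fin k) :
    ∃ t, ∃ ht : t ∈ T, hom h hH hm ⟨t, hTH ht⟩ (i, 0) = (j, 0) := by
  obtain ⟨t, ht, σ, τ, h1, h2⟩ := h.trans i j
  refine ⟨t, ht, ?_⟩
  rw [hom_sym h hH hm ⟨t, hTH ht⟩ h1, h2, h.fix0 t ht σ τ h1 i]

/-- the first coordinate of the image depends on the first coordinate only -/
theorem hom_fst (hm : 1 ≤ m) (g : H) (i : Fin k) (x y : Fin (2 ^ m + 1)) :
    (hom h hH hm g (i, x)).1 = (hom h hH hm g (i, y)).1 := by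
  obtain ⟨σ, τ, -, h2⟩ := hom_blk h hH hm g
  rw [h2, h2]

/-- the action on the blocks -/
noncomputable def bl (hm : 1 ≤ m) : H →* Equiv.Perm (Fin k) :=
  MonoidHom.toHomPerm
    { toFun := fun g i => (hom h hH hm g (i, 0)).1
      map_one' := by
        funext i
        rw [map_one]
        rfl
      map_mul' := fun g g' => by
        funext i
        rw [map_mul, Equiv.Perm.mul_apply]
        exact hom_fst h hH hm g _ _ _ }

theorem bl_apply (hm : 1 ≤ m) (g : H) (i : Fin k) (x : Fin (2 ^ m + 1)) :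
    bl h hH hm g i = (hom h hH hm g (i, x)).1 := hom_fst h hH hm g i 0 x

end basic

/-! ### The Sylow subgroup and the stabiliser of a block -/

/-- a subgroup which is transitive on the orbit of `i` meets the stabiliser of `i` in a subgroup of the same index -/
theorem relIndex_stab {L : Type*} [Group L] [Finite L] {α : Type*} [MulAction L α] (S : Subgroup L) {i : α}
    (htr : ∀ g : L, ∃ s ∈ S, s • i = g • i) :
    (S ⊓ MulAction.stabilizer L i).relIndex (MulAction.stabilizer L i) = S.index := by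
  set B := MulAction.stabilizer L i
  have horb : ∀ (K : Subgroup L), (K ⊓ B).relIndex K = (MulAction.orbit K i).ncard := by
    intro K
    rw [inf_relIndex_left, ← MulAction.index_stabilizer (G := K) (x := i), relIndex]
    rfl
  have h1 : (S ⊓ B).relIndex S * S.relIndex ⊤ = (S ⊓ B).relIndex ⊤ :=
    relIndex_mul_relIndex _ _ _ inf_le_left le_top
  have h2 : (S ⊓ B).relIndex B * B.relIndex ⊤ = (S ⊓ B).relIndex ⊤ :=
    relIndex_mul_relIndex _ _ _ inf_le_right le_top
  have h3 : (S ⊓ B).relIndex S = B.relIndex ⊤ := by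
    have h4 : (⊤ ⊓ B).relIndex ⊤ = (MulAction.orbit (⊤ : Subgroup L) i).ncard := horb ⊤
    rw [top_inf_eq] at h4
    rw [horb S, h4]
    congr 1
    ext x
    constructor
    · rintro ⟨⟨s, hs⟩, rfl⟩
      exact ⟨⟨s, mem_top s⟩, rfl⟩
    · rintro ⟨⟨g, hg⟩, rfl⟩
      obtain ⟨s, hs, e⟩ := htr g
      exact ⟨⟨s, hs⟩, e⟩
  have h5 : B.relIndex ⊤ ≠ 0 := by
    rw [relIndex_top_right]
    exact FiniteIndex.index_ne_zero
  rw [← h2, h3, mul_comm, relIndex_top_right] at h1
  exact (Nat.eq_of_mul_eq_mul_right (Nat.pos_of_ne_zero h5) h1).symm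

section syl

variable {G : Type u} [Group G] [Finite G] {T H V D : Subgroup G} {k m : ℕ} (h : SymK T H V D k m)
  (hH : H ≤ normalizer (V : Set G)) (hTH : T ≤ H) (hT2 : ¬ 2 ∣ T.relIndex H) (hm : 1 ≤ m) (i₀ : Fin k)

/-- the stabiliser of a block -/
noncomputable def Bs : Subgroup H := (MulAction.stabilizer (Equiv.Perm (Fin k)) i₀).comap (bl h hH hm)

/-- the stabiliser of a point -/
noncomputable def Ms : Subgroup H :=
  (MulAction.stabilizer (Equiv.Perm (Fin k × Fin (2 ^ m + 1)))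
    ((i₀, 0) : Fin k × Fin (2 ^ m + 1))).comap (hom h hH hm)

theorem mem_Bs {g : H} : g ∈ Bs h hH hm i₀ ↔ bl h hH hm g i₀ = i₀ := Iff.rfl

theorem mem_Ms {g : H} : g ∈ Ms h hH hm i₀ ↔ hom h hH hm g (i₀, 0) = (i₀, 0) := Iff.rfl

theorem hom_Bs {g : H} (hg : g ∈ Bs h hH hm i₀) (x : Fin (2 ^ m + 1)) :
    hom h hH hm g (i₀, x) = (i₀, (hom h hH hm g (i₀, x)).2) :=
  Prod.ext ((bl_apply h hH hm g i₀ x).symm.trans ((mem_Bs h hH hm i₀).1 hg)) rfl

theorem Ms_le : Ms h hH hm i₀ ≤ Bs h hH hm i₀ := by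
  intro g hg
  rw [mem_Bs, bl_apply h hH hm g i₀ 0, (mem_Ms h hH hm i₀).1 hg]

include hTH hT2 in
theorem odd_Bs : ¬ 2 ∣ (T.subgroupOf H ⊓ Bs h hH hm i₀).relIndex (Bs h hH hm i₀) := by
  let _ : MulAction H (Fin k) := MulAction.compHom _ (bl h hH hm)
  have h1 : Bs h hH hm i₀ = MulAction.stabilizer H i₀ := rfl
  rw [h1, relIndex_stab (T.subgroupOf H)]
  · exact hT2
  · intro g
    obtain ⟨t, ht, h2⟩ := hom_T_trans h hH hTH hm i₀ (bl h hH hm g i₀)
    refine ⟨⟨t, hTH ht⟩, ht, ?_⟩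
    change bl h hH hm ⟨t, hTH ht⟩ i₀ = bl h hH hm g i₀
    rw [bl_apply h hH hm _ i₀ 0, h2]

include hTH in
theorem T_le_Ms {t : H} (ht : t ∈ T.subgroupOf H ⊓ Bs h hH hm i₀) : t ∈ Ms h hH hm i₀ := by
  rw [mem_Ms, hom_Bs h hH hm i₀ ht.2 0]
  exact Prod.ext rfl (hom_T h hH hTH hm (mem_subgroupOf.1 ht.1) i₀)

include hTH hT2 in
theorem odd_Ms : ¬ 2 ∣ (T.subgroupOf H ⊓ Bs h hH hm i₀).relIndex (Ms h hH hm i₀) := by
  intro h1
  apply odd_Bs h hH hTH hT2 hm i₀
  rw [← relIndex_mul_relIndex _ _ _ (fun t ht => T_le_Ms h hH hTH hm i₀ ht) (Ms_le h hH hm i₀)]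
  exact dvd_mul_of_dvd_left h1 _

/-- the action on the points of one block -/
noncomputable def pt : Bs h hH hm i₀ →* Equiv.Perm (Fin (2 ^ m + 1)) :=
  MonoidHom.toHomPerm
    { toFun := fun g x => (hom h hH hm g (i₀, x)).2
      map_one' := by
        funext x
        rw [OneMemClass.coe_one, map_one]
        rfl
      map_mul' := fun g g' => by
        funext x
        rw [MulMemClass.coe_mul, map_mul, Equiv.Perm.mul_apply, hom_Bs h hH hm i₀ g'.2 x]
        rfl }

theorem pt_apply (g : Bs h hH hm i₀) (x : Fin (2 ^ m + 1)) : pt h hH hm i₀ g x = (hom h hH hm g (i₀, x)).2 := rfl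

theorem pt_surjective : Function.Surjective (pt h hH hm i₀) := by
  intro τ
  obtain ⟨g, hg⟩ := hom_lift h hH hm fun _ => τ
  refine ⟨⟨g, ?_⟩, ?_⟩
  · rw [mem_Bs, bl_apply h hH hm g i₀ 0, hg]
  · ext1 x
    rw [pt_apply]
    change (hom h hH hm g (i₀, x)).2 = τ x
    rw [hg]

include hH hTH hT2 hm in
/-- the block coordinates of a fixed vector of `T` -/
theorem fixed_cases {z : G} (hz : z ∈ V) (hzT : ∀ t ∈ T, t * z = z * t) :
    h.e z i₀ = 0 ∨ h.e z i₀ = hat (Pi.single 0 1) := by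
  classical
  have hconst : ∀ i j : Fin (2 ^ m + 1), i ≠ 0 → j ≠ 0 → h.e z i₀ i = h.e z i₀ j := by
    intro i j hi hj
    obtain ⟨t, ht, htij⟩ := trans_of_surj (pt h hH hm i₀) (pt_surjective h hH hm i₀)
      (S' := (T.subgroupOf H ⊓ Bs h hH hm i₀).subgroupOf (Bs h hH hm i₀)) (odd_Bs h hH hTH hT2 hm i₀)
      (fun s hs => by
        rw [pt_apply]
        exact hom_T h hH hTH hm (mem_subgroupOf.1 hs).1 i₀) hi hj
    have h1 := ac_hom h hH hm t z hz (i₀, i)
    rw [hom_Bs h hH hm i₀ t.2 i, ← pt_apply, htij,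
      hzT ((t : H) : G) (mem_subgroupOf.1 (mem_subgroupOf.1 ht).1), mul_inv_cancel_right] at h1
    exact h1.symm
  have h1 : (1 : Fin (2 ^ m + 1)) ≠ 0 := by
    intro h3
    have h4 := congrArg Fin.val h3
    have h5 : 2 ^ 1 ≤ 2 ^ m := Nat.pow_le_pow_right (by norm_num) hm
    rw [Fin.val_one', Fin.val_zero, Nat.mod_eq_of_lt (by omega)] at h4
    exact one_ne_zero h4
  have hsum := h.even z hz i₀
  rw [← Finset.add_sum_erase _ _ (Finset.mem_univ 0)] at hsum
  have hsum2 : ∑ x ∈ Finset.univ.erase (0 : Fin (2 ^ m + 1)), h.e z i₀ x = 0 := by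
    rw [Finset.sum_congr rfl fun x hx => hconst x 1 (Finset.ne_of_mem_erase hx) h1, Finset.sum_const,
      Finset.card_erase_of_mem (Finset.mem_univ _), Finset.card_univ, Fintype.card_fin, Nat.add_sub_cancel,
      nsmul_eq_mul]
    have h6 : ((2 ^ m : ℕ) : ZMod 2) = 0 := by
      rw [ZMod.natCast_eq_zero_iff]
      exact dvd_pow_self 2 (by omega)
    rw [h6, zero_mul]
  rw [hsum2, add_zero] at hsum
  have h01 : ∀ a : ZMod 2, a = 0 ∨ a = 1 := by decide
  rcases h01 (h.e z i₀ 1) with h2 | h2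
  · left
    funext x
    by_cases hx : x = 0
    · subst hx
      exact hsum
    · rw [hconst x 1 hx h1, h2]
      rfl
  · right
    funext x
    rw [hat_single]
    by_cases hx : x = 0
    · subst hx
      rw [hsum, if_pos rfl, CharTwo.add_self_eq_zero]
    · rw [hconst x 1 hx h1, h2, if_neg hx, zero_add]

end syl

/-! ### The splitting in the group -/

section group

variable {G : Type u} [Group G] [Finite G] {T H V D : Subgroup G} {k m : ℕ}

/-- some fixed vector of `T` is not in `D` -/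
theorem exists_z (h : SymK T H (zl T H) D k m) (hk : 0 < k) (hm : 1 ≤ m) (hTH : T ≤ H) (hT2 : ¬ 2 ∣ T.relIndex H)
    (hD : H ≤ normalizer (D : Set G)) : ∃ z ∈ zc T, ∃ i₀, h.e z i₀ = hat (Pi.single 0 1) := by
  classical
  have hH := le_normalizer_zl T H
  by_contra hcon
  push Not at hcon
  have h1 : zc T ≤ D := fun z hz => by
    rw [← h.ker z (zc_le_zl T H hz)]
    funext i
    exact (fixed_cases h hH hTH hT2 hm i (zc_le_zl T H hz) fun t ht => (mem_zc.1 hz).2.1 t ht).resolve_right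
      (hcon z hz i)
  have h2 : zl T H ≤ D := zl_le h1 hD
  obtain ⟨v, hv, hev⟩ := h.surj (fun _ => hat (Pi.single 0 1)) fun _ => sum_hat hm (Pi.single 0 1)
  have h3 := (h.ker v hv).2 (h2 hv)
  rw [hev] at h3
  have h4 := (hat_eq_zero_iff hm _).1 (congrFun h3 ⟨0, hk⟩)
  rcases h4 with h4 | h4
  · have h5 := congrFun h4 0
    simp at h5
  · obtain ⟨j, hj⟩ : ∃ j : Fin (2 ^ m + 1), j ≠ 0 := by
      have h5 : 2 ^ 1 ≤ 2 ^ m := Nat.pow_le_pow_right (by norm_num) hm
      exact ⟨⟨1, by omega⟩, fun h6 => by simpa using congrArg Fin.val h6⟩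
    have h5 := congrFun h4 j
    rw [Pi.single_eq_of_ne hj, Pi.one_apply] at h5
    exact zero_ne_one h5

/-- **The splitting from a fixed vector `z`**, uncurried labels. -/
theorem exists_E' (h : SymK T H V D k m) (hm : 1 ≤ m) (hH : H ≤ normalizer (V : Set G)) (hTH : T ≤ H)
    (hT2 : ¬ 2 ∣ T.relIndex H) (hVc : ∀ x ∈ V, ∀ y ∈ V, x * y = y * x) (hV2 : ∀ x ∈ V, x ^ 2 = 1)
    {z : G} (hz : z ∈ V) (hzT : ∀ t ∈ T, t * z = z * t) {i₀ : Fin k} (hez : h.e z i₀ = hat (Pi.single 0 1)) :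
    ∃ E : (Fin k × Fin (2 ^ m + 1) → ZMod 2) → G, (∀ y, E y ∈ V) ∧ (∀ x y, E (x + y) = E x * E y) ∧
      (∀ y i x, h.e (E y) i x = y (i, x) + ∑ x', y (i, x')) ∧ (∀ y, (∀ i x x', y (i, x) = y (i, x')) → E y = 1) ∧
      ∀ g : H, ∀ y, (g : G) * E y * (g : G)⁻¹ = E (y ∘ (hom h hH hm g).symm) := by
  let _ := cact hVc
  let _ := dact hVc hH
  let e : Additive V →+ (Fin k × Fin (2 ^ m + 1) → ZMod 2) :=
    { toFun := fun v w => h.e (v.toMul : G) w.1 w.2
      map_zero' := by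
        funext w
        change h.e (1 : G) w.1 w.2 = 0
        rw [e_one]
        rfl
      map_add' := fun v w => by
        funext u
        change h.e ((v.toMul : G) * (w.toMul : G)) u.1 u.2 = _
        rw [h.mul _ v.toMul.2 _ w.toMul.2]
        rfl }
  obtain ⟨E, h1, h2, h3, h4⟩ := exists_E (X := Additive V) (K := H) hm (hom h hH hm)
    (fun g => by
      obtain ⟨σ, τ, -, q⟩ := hom_blk h hH hm g
      exact ⟨σ, τ, q⟩)
    (hom_lift h hH hm) (i₀ := i₀)
    (fun j => by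
      obtain ⟨t, ht, q⟩ := hom_T_trans h hH hTH hm i₀ j
      exact ⟨⟨t, hTH ht⟩, by rw [q]⟩)
    (S := T.subgroupOf H ⊓ Bs h hH hm i₀) (M := Ms h hH hm i₀) (odd_Ms h hH hTH hT2 hm i₀)
    (fun g => Iff.rfl) (fun s hs => T_le_Ms h hH hTH hm i₀ hs) e
    (fun g v w => ac_hom h hH hm g _ v.toMul.2 w) (fun v i => h.even _ v.toMul.2 i) (z := Additive.ofMul ⟨z, hz⟩)
    (fun t ht => by
      refine congrArg Additive.ofMul (Subtype.ext ?_)
      change (t : G) * z * (t : G)⁻¹ = z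
      rw [hzT _ (mem_subgroupOf.1 ht.1), mul_inv_cancel_right])
    (fun x => congrFun hez x)
    (fun v => by
      refine congrArg Additive.ofMul (Subtype.ext ?_)
      change (v.toMul : G) * (v.toMul : G) = 1
      rw [← pow_two]
      exact hV2 _ v.toMul.2)
  refine ⟨fun x => ((E x).toMul : G), fun x => (E x).toMul.2, fun x y => ?_, fun y i x => h2 y (i, x),
    fun y hy => ?_, ?_⟩
  · exact congrArg (fun v : Additive V => (v.toMul : G)) (h1 x y)
  · change ((E y).toMul : G) = 1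
    rw [h3 y hy]
    rfl
  · intro g y
    exact congrArg (fun v : Additive V => (v.toMul : G)) (h4 g y)

/-- **The module of a member with `k` factors `S_{2^m+1}` splits**: `H` centralises `D = C_V(O²(H))`, and there are
labels `ε i x` of the summands which `H` permutes. -/
theorem exists_spl (h : SymK T H (zl T H) (cv T H) k m) (hk : 0 < k) (hm : 1 ≤ m) (hT : Syl T H)
    (hc : H ⊓ centralizer (o2 H : Set G) ≤ o2 H) :
    H ≤ centralizer (cv T H : Set G) ∧ ∃ ε : Fin k → (Fin (2 ^ m + 1) → ZMod 2) → G,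
      (∀ i x, ε i x ∈ zl T H) ∧ (∀ i x y, ε i (x + y) = ε i x * ε i y) ∧
      (∀ i x, h.e (ε i x) = Pi.single i (hat x)) ∧ (∀ i, ε i 1 = 1) ∧
      ∀ g ∈ H, ∀ σ τ, ActsSym h.e (zl T H) g σ τ → ∀ i x, g * ε i x * g⁻¹ = ε (σ i) (x ∘ (τ i).symm) := by
  classical
  have hTH := hT.1
  have hT2 := syl_not_dvd hT
  have hH := le_normalizer_zl T H
  have hVc := zl_comm hTH hT.2.1 hT2 hc
  have hV2 := zl_sq hTH hT.2.1 hT2 hc
  have hDV : cv T H ≤ zl T H := inf_le_left
  have hO : H ≤ normalizer (oddGen H : Set G) := le_normalizer_oddGen H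
  have hDn : ∀ g ∈ H, ∀ d ∈ cv T H, g * d * g⁻¹ ∈ cv T H := by
    intro g hg d hd
    refine ⟨(mem_normalizer_iff.1 (hH hg) _).1 hd.1, mem_centralizer_iff.2 fun o ho => ?_⟩
    have h1 : g⁻¹ * o * g ∈ oddGen H := by
      have := (mem_normalizer_iff.1 (hO (inv_mem hg)) o).1 ho
      rwa [inv_inv] at this
    have h2 := mem_centralizer_iff.1 hd.2 _ h1
    calc o * (g * d * g⁻¹) = g * ((g⁻¹ * o * g) * d) * g⁻¹ := by group
      _ = g * (d * (g⁻¹ * o * g)) * g⁻¹ := by rw [h2]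
      _ = g * d * g⁻¹ * o := by group
  have hDN : H ≤ normalizer (cv T H : Set G) := by
    intro g hg
    rw [mem_normalizer_iff]
    refine fun d => ⟨hDn g hg d, fun hd => ?_⟩
    have h1 := hDn g⁻¹ (inv_mem hg) _ hd
    have e : g⁻¹ * (g * d * g⁻¹) * g⁻¹⁻¹ = d := by group
    rwa [e] at h1
  obtain ⟨z, hz, i₀, hez⟩ := exists_z h hk hm hTH hT2 hDN
  obtain ⟨E, he1, he2, he3, he4, he5⟩ := exists_E' h hm hH hTH hT2 hVc hV2 (zc_le_zl T H hz)
    (fun t ht => (mem_zc.1 hz).2.1 t ht) hez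
  have h0 : E 0 = 1 := he4 0 fun _ _ _ => rfl
  have hself : ∀ y : Fin k × Fin (2 ^ m + 1) → ZMod 2, y + y = 0 := fun y =>
    funext fun w => CharTwo.add_self_eq_zero (y w)
  have hinv : ∀ x, (E x)⁻¹ = E x := fun x => by
    rw [inv_eq_iff_mul_eq_one, ← he2, hself, h0]
  let A : Subgroup G :=
    { carrier := Set.range E
      one_mem' := ⟨0, h0⟩
      mul_mem' := by
        rintro _ _ ⟨x, rfl⟩ ⟨y, rfl⟩
        exact ⟨x + y, he2 x y⟩
      inv_mem' := by
        rintro _ ⟨x, rfl⟩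
        exact ⟨x, (hinv x).symm⟩ }
  have hA : ∀ x, E x ∈ A := fun x => ⟨x, rfl⟩
  have hAn : ∀ g ∈ H, ∀ a ∈ A, g * a * g⁻¹ ∈ A := by
    rintro g hg _ ⟨y, rfl⟩
    rw [he5 ⟨g, hg⟩ y]
    exact hA _
  have hAN : H ≤ normalizer (A : Set G) := by
    intro g hg
    rw [mem_normalizer_iff]
    refine fun a => ⟨hAn g hg a, fun ha => ?_⟩
    have h1 := hAn g⁻¹ (inv_mem hg) _ ha
    have e : g⁻¹ * (g * a * g⁻¹) * g⁻¹⁻¹ = a := by group
    rwa [e] at h1
  -- the intersection with `D`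
  have hinf : A ⊓ cv T H = ⊥ := by
    rw [eq_bot_iff]
    rintro _ ⟨⟨y, rfl⟩, hx⟩
    rw [mem_bot]
    have h1 := (h.ker _ (he1 y)).2 hx
    refine he4 y fun i x x' => ?_
    have h2 : ∀ x, y (i, x) = ∑ x', y (i, x') := by
      intro x
      have h3 := he3 y i x
      rw [h1] at h3
      exact CharTwo.add_eq_zero.1 h3.symm
    rw [h2 x, h2 x']
  have hAV : A ≤ zl T H := by
    rintro _ ⟨x, rfl⟩
    exact he1 x
  have hsup : A ⊔ cv T H = zl T H := by
    refine le_antisymm (sup_le hAV hDV) fun v hv => ?_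
    have h1 : (E fun w => h.e v w.1 w.2)⁻¹ * v ∈ cv T H := by
      rw [hinv, ← h.ker _ (mul_mem (he1 _) hv), h.mul _ (he1 _) v hv]
      funext i x
      rw [Pi.add_apply, Pi.add_apply, he3]
      simp only
      rw [h.even v hv i, add_zero]
      exact CharTwo.add_self_eq_zero _
    have e : v = (E fun w => h.e v w.1 w.2) * ((E fun w => h.e v w.1 w.2)⁻¹ * v) := by group
    rw [e]
    exact mul_mem_sup (hA _) h1
  have hcomm : ∀ x ∈ A, ∀ y ∈ cv T H, x * y = y * x := fun x hx y hy => hVc x (hAV hx) y (hDV hy)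
  -- `D` is centralised by `H`
  have hC : zc T ≤ A ⊔ (cv T H ⊓ centralizer (H : Set G)) := by
    intro v hv
    have hvV := zc_le_zl T H hv
    rw [← hsup] at hvV
    obtain ⟨a, ha, d, hd, rfl⟩ := mem_sup_comm hcomm hvV
    refine mul_mem_sup ha ⟨hd, ?_⟩
    have h1 : T ≤ centralizer ({d} : Set G) := by
      intro t ht
      rw [mem_centralizer_singleton_iff]
      have h2 : t * (a * d) = a * d * t := (mem_zc.1 hv).2.1 t ht
      have h3 : t * a * t⁻¹ ∈ A := hAn t (hTH ht) a ha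
      have h4 : t * d * t⁻¹ ∈ cv T H := hDn t (hTH ht) d hd
      have h5 : a⁻¹ * (t * a * t⁻¹) = d * (t * d * t⁻¹)⁻¹ := by
        have h6 : a * d = t * a * t⁻¹ * (t * d * t⁻¹) := by
          calc a * d = t * (a * d) * t⁻¹ := by rw [h2, mul_inv_cancel_right]
            _ = _ := by group
        rw [inv_mul_eq_iff_eq_mul, ← mul_assoc, eq_mul_inv_iff_mul_eq]
        exact h6.symm
      have h6 : d * (t * d * t⁻¹)⁻¹ ∈ A ⊓ cv T H := by
        refine ⟨?_, (cv T H).mul_mem hd ((cv T H).inv_mem h4)⟩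
        rw [← h5]
        exact A.mul_mem (A.inv_mem ha) h3
      rw [hinf, mem_bot, mul_inv_eq_one] at h6
      calc t * d = t * d * t⁻¹ * t := by group
        _ = d * t := by rw [← h6]
    have h2 : oddGen H ≤ centralizer ({d} : Set G) := by
      intro o ho
      rw [mem_centralizer_singleton_iff]
      exact mem_centralizer_iff.1 hd.2 o ho
    have h3 : H ≤ centralizer ({d} : Set G) := by
      rw [← Cfsg.Agent.Omega.NO3b.EZero.oddGen_sup_syl hT]
      exact sup_le h2 h1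
    exact mem_centralizer_iff.2 fun g hg => mem_centralizer_singleton_iff.1 (h3 hg)
  have hC2 : zl T H ≤ A ⊔ (cv T H ⊓ centralizer (H : Set G)) := by
    refine zl_le hC ?_
    intro g hg
    rw [mem_normalizer_iff_map_conj_eq, Subgroup.map_sup]
    congr 1
    · exact mem_normalizer_iff_map_conj_eq.1 (hAN hg)
    · refine mem_normalizer_iff_map_conj_eq.1 ?_
      refine (centralizer_le_normalizer _) (mem_centralizer_iff.2 fun d hd => ?_)
      exact (mem_centralizer_iff.1 hd.2 g hg).symm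
  refine ⟨?_, fun i x => E fun w => if w.1 = i then x w.2 else 0, fun i x => he1 _, ?_, ?_, ?_, ?_⟩
  · intro g hg
    refine mem_centralizer_iff.2 fun d hd => ?_
    obtain ⟨a, ha, d', hd', rfl⟩ := mem_sup_comm
      (fun x hx y (hy : y ∈ cv T H ⊓ centralizer (H : Set G)) => hcomm x hx y (mem_inf.1 hy).1) (hC2 (hDV hd))
    have h1 : a ∈ A ⊓ cv T H := by
      refine ⟨ha, ?_⟩
      have := mul_mem hd (inv_mem hd'.1)
      rwa [mul_inv_cancel_right] at this
    rw [hinf, mem_bot] at h1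
    rw [h1, one_mul]
    exact (mem_centralizer_iff.1 hd'.2 g hg).symm
  · intro i x y
    rw [← he2]
    change E (fun w => if w.1 = i then (x + y) w.2 else 0) = E _
    congr 1
    funext w
    by_cases hw : w.1 = i <;> simp [hw]
  · intro i x
    funext j y
    rw [he3]
    by_cases hj : j = i
    · subst hj
      simp [hat]
    · rw [Pi.single_eq_of_ne hj]
      simp [hj]
  · intro i
    refine he4 _ fun j x x' => rfl
  · intro g hg σ τ hστ i x
    rw [he5 ⟨g, hg⟩]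
    congr 1
    funext w
    obtain ⟨⟨j, y⟩, rfl⟩ := (hom h hH hm ⟨g, hg⟩).surjective w
    rw [hom_sym h hH hm ⟨g, hg⟩ hστ, ← hom_sym h hH hm ⟨g, hg⟩ hστ, Function.comp_apply, Equiv.symm_apply_apply,
      hom_sym h hH hm ⟨g, hg⟩ hστ]
    simp only [Function.comp_apply]
    by_cases hj : j = i
    · subst hj
      simp
    · rw [if_neg hj, if_neg fun h => hj (σ.injective h)]

end group

end Cfsg.Agent.Omega.IId.SwCv.Spl

end
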